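import Groth.Agent.Lib.NodeNF.Basic

/-!
# Equivariant normal form of a node with an involution
-/

set_option autoImplicit false
set_option linter.all false

universe u

open IsLocalRing

namespace GrothLib.NodeInv2

variable {R S : Type u} [CommRing R] [IsLocalRing R] [IsNoetherianRing R]
  [IsAdicComplete (maximalIdeal R) R] [CommRing S] [IsLocalRing S] [IsNoetherianRing S]
  [Algebra R S] (σ : S ≃ₐ[R] S)

/-- An involution preserves extended ideals. -/
theorem map_mem {J : Ideal R} {z : S} (hz : z ∈ J.map (algebraMap R S)) : σ z ∈ J.map (algebraMap R S) := by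
  have h := Ideal.mem_map_of_mem (σ : S →+* S) hz
  rwa [Ideal.map_map, show (σ : S →+* S).comp (algebraMap R S) = algebraMap R S from RingHom.ext σ.commutes] at h

variable (hσ : ∀ s, σ (σ s) = s) (ε δ half : R) (hε : ε * ε = 1) (hδ : δ * δ = 1) (hhalf : 2 * half = 1)

include hσ hε hδ hhalf in
/-- One equivariant step. -/
theorem step (hres : ∀ y : S, ∃ c : R, y - algebraMap R S c ∈ maximalIdeal S) {u v u₀ v₀ : S}
    (hgen : maximalIdeal S = Ideal.span {u₀, v₀} ⊔ (maximalIdeal R).map (algebraMap R S))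
    (hu : u - u₀ ∈ (maximalIdeal R).map (algebraMap R S))
    (hv : v - v₀ ∈ (maximalIdeal R).map (algebraMap R S)) {α : R} {n : ℕ}
    (hσu : σ u = algebraMap R S ε * u) (hσv : σ v = algebraMap R S δ * v) (hα : ε * δ * α = α)
    (h : u * v - algebraMap R S α ∈ (maximalIdeal R ^ (n + 1)).map (algebraMap R S)) :
    ∃ (u' v' : S) (α' : R), u' - u ∈ (maximalIdeal R ^ (n + 1)).map (algebraMap R S) ∧
      v' - v ∈ (maximalIdeal R ^ (n + 1)).map (algebraMap R S) ∧ α' - α ∈ maximalIdeal R ^ (n + 1) ∧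
      σ u' = algebraMap R S ε * u' ∧ σ v' = algebraMap R S δ * v' ∧ ε * δ * α' = α' ∧
      u' * v' - algebraMap R S α' ∈ (maximalIdeal R ^ (n + 1 + 1)).map (algebraMap R S) := by
  have hgen' : maximalIdeal S = Ideal.span {u, v} ⊔ (maximalIdeal R).map (algebraMap R S) := by
    rw [GrothLib.NodeNF.span_pair_sup_eq hu hv]; exact hgen
  obtain ⟨c, hc, g, hg, k, hk, hz⟩ := GrothLib.NodeNF.exists_decomp_of_mem hres hgen' _ h
  set E := algebraMap R S ε
  set F := algebraMap R S δ
  set H := algebraMap R S half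
  have hE : E * E = 1 := by rw [← map_mul, hε, map_one]
  have hF : F * F = 1 := by rw [← map_mul, hδ, map_one]
  have hH : 2 * H = 1 := by rw [← map_ofNat (algebraMap R S) 2, ← map_mul, hhalf, map_one]
  have hA : E * F * algebraMap R S α = algebraMap R S α := by rw [← map_mul, ← map_mul, hα]
  have hσE : σ E = E := σ.commutes ε
  have hσF : σ F = F := σ.commutes δ
  have hσH : σ H = H := σ.commutes half
  let g' := H * (g + F * σ g)
  let k' := H * (k + E * σ k)
  let c' := half * (c + ε * δ * c)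
  have hg' : g' ∈ (maximalIdeal R ^ (n + 1)).map (algebraMap R S) :=
    Ideal.mul_mem_left _ _ (add_mem hg (Ideal.mul_mem_left _ _ (map_mem σ hg)))
  have hk' : k' ∈ (maximalIdeal R ^ (n + 1)).map (algebraMap R S) :=
    Ideal.mul_mem_left _ _ (add_mem hk (Ideal.mul_mem_left _ _ (map_mem σ hk)))
  have hσg : σ g' = F * g' := by
    simp only [g', map_mul, map_add, hσH, hσF, hσ]
    linear_combination (-(H * σ g)) * hF
  have hσk : σ k' = E * k' := by
    simp only [k', map_mul, map_add, hσH, hσE, hσ]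
    linear_combination (-(H * σ k)) * hE
  have hσz := congrArg σ hz
  simp only [map_sub, map_add, map_mul, hσu, hσv, AlgEquiv.commutes] at hσz
  refine ⟨u - k', v - g', α + c', by simpa using hk', by simpa using hg', ?_, ?_, ?_, ?_, ?_⟩
  · simpa [c'] using Ideal.mul_mem_left _ half (add_mem hc (Ideal.mul_mem_left _ (ε * δ) hc))
  · rw [map_sub, hσu, hσk, mul_sub]
  · rw [map_sub, hσv, hσg, mul_sub]
  · simp only [c']
    linear_combination hα + (half * c * (δ * δ)) * hε + (half * c) * hδ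
  · have : (u - k') * (v - g') - algebraMap R S (α + c') = k' * g' := by
      simp only [g', k', c', map_add, map_mul]
      linear_combination H * hz + (H * E * F) * hσz - (u * v - algebraMap R S α) * hH
        - (H * u * v * F * F) * hE - (H * u * v) * hF + H * hA + (H * F * u * σ g) * hE + (H * E * v * σ k) * hF
    rw [this]
    have h2 := Ideal.mul_mem_mul hk' hg'
    rw [← Ideal.map_mul, ← pow_add] at h2
    exact Ideal.map_mono (Ideal.pow_le_pow_right (by omega)) h2

variable [IsAdicComplete (maximalIdeal S) S]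

include hσ hε hδ hhalf in
/-- The node can be put in the form `x * y = α` with eigenvectors of the involution. -/
theorem exists_normal_form (hres : ∀ y : S, ∃ c : R, y - algebraMap R S c ∈ maximalIdeal S) {u₀ v₀ : S}
    (huv : u₀ * v₀ ∈ (maximalIdeal R).map (algebraMap R S))
    (hgen : maximalIdeal S = Ideal.span {u₀, v₀} ⊔ (maximalIdeal R).map (algebraMap R S))
    (hσu : σ u₀ = algebraMap R S ε * u₀) (hσv : σ v₀ = algebraMap R S δ * v₀) :
    ∃ (u v : S) (α : R), α ∈ maximalIdeal R ∧ u - u₀ ∈ (maximalIdeal R).map (algebraMap R S) ∧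
      v - v₀ ∈ (maximalIdeal R).map (algebraMap R S) ∧ u * v = algebraMap R S α ∧
      σ u = algebraMap R S ε * u ∧ σ v = algebraMap R S δ * v ∧ ε * δ * α = α := by
  set I : Ideal S := (maximalIdeal R).map (algebraMap R S) with hI
  let P : ℕ → S × S × R → Prop := fun n t => t.1 - u₀ ∈ I ∧ t.2.1 - v₀ ∈ I ∧ t.2.2 ∈ maximalIdeal R ∧
    σ t.1 = algebraMap R S ε * t.1 ∧ σ t.2.1 = algebraMap R S δ * t.2.1 ∧ ε * δ * t.2.2 = t.2.2 ∧
    t.1 * t.2.1 - algebraMap R S t.2.2 ∈ (maximalIdeal R ^ (n + 1)).map (algebraMap R S)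
  have hP0 : P 0 (u₀, v₀, 0) := ⟨by simp, by simp, zero_mem _, hσu, hσv, by simp, by simpa [P] using huv⟩
  have hleI : ∀ n, (maximalIdeal R ^ (n + 1)).map (algebraMap R S) ≤ I := fun n =>
    Ideal.map_mono (Ideal.pow_le_self n.succ_ne_zero)
  have hstep : ∀ n t, P n t → ∃ t', P (n + 1) t' ∧
      t'.1 - t.1 ∈ I ^ (n + 1) ∧ t'.2.1 - t.2.1 ∈ I ^ (n + 1) ∧
      t'.2.2 - t.2.2 ∈ maximalIdeal R ^ (n + 1) := by
    rintro n ⟨u, v, α⟩ ⟨hu, hv, hα, hsu, hsv, hsa, h⟩
    obtain ⟨u', v', α', hu', hv', hα', hsu', hsv', hsa', h'⟩ :=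
      step σ hσ ε δ half hε hδ hhalf hres hgen hu hv hsu hsv hsa h
    refine ⟨(u', v', α'), ⟨?_, ?_, ?_, hsu', hsv', hsa', h'⟩, ?_, ?_, hα'⟩
    · simpa using add_mem (hleI n hu') hu
    · simpa using add_mem (hleI n hv') hv
    · simpa using add_mem (Ideal.pow_le_self n.succ_ne_zero hα') hα
    · rwa [hI, ← Ideal.map_pow]
    · rwa [hI, ← Ideal.map_pow]
  choose! next hnext using hstep
  let s : ℕ → S × S × R := fun n => Nat.rec (u₀, v₀, 0) (fun k t => next k t) n
  have hs : ∀ n, P n (s n) := fun n => by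
    induction n with
    | zero => exact hP0
    | succ n ih => exact (hnext n _ ih).1
  have hle : I ≤ maximalIdeal S := by rw [hgen]; exact le_sup_right
  have : IsAdicComplete I S := GrothLib.AdicExtra.isAdicComplete_of_le hle I.fg_of_isNoetherianRing
  have lim : ∀ {T : Type u} [CommRing T] (J : Ideal T) [IsAdicComplete J T] (x : ℕ → T),
      (∀ n, x (n + 1) - x n ∈ J ^ (n + 1)) → ∃ L, ∀ n, L - x n ∈ J ^ n := by
    intro T _ J _ x hx
    have hx' : ∀ {m n : ℕ}, m ≤ n → x n - x m ∈ J ^ m := by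
      intro m n hmn
      induction hmn with
      | refl => simp
      | @step k hk ih =>
        have := add_mem (Ideal.pow_le_pow_right (Nat.le.step hk) (hx k)) ih
        simpa using this
    obtain ⟨L, hL⟩ := IsPrecomplete.prec (I := J) inferInstance (f := x) fun {m n} hmn => by
      rw [SModEq.sub_mem, smul_eq_mul, Ideal.mul_top]
      simpa using neg_mem (hx' hmn)
    refine ⟨L, fun n => ?_⟩
    have := hL n
    rw [SModEq.sub_mem, smul_eq_mul, Ideal.mul_top] at this
    simpa using neg_mem this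
  have eigen : ∀ {T : Type u} [CommRing T] (J : Ideal T) [IsAdicComplete J T] (f : T →+ T) (c L : T) (x : ℕ → T),
      (∀ n, ∀ z ∈ J ^ n, f z ∈ J ^ n) → (∀ n, f (x n) = c * x n) → (∀ n, L - x n ∈ J ^ n) → f L = c * L := by
    intro T _ J _ f c L x hf hx hL
    refine sub_eq_zero.1 (IsHausdorff.haus (I := J) inferInstance _ fun n => ?_)
    rw [SModEq.sub_mem, sub_zero, smul_eq_mul, Ideal.mul_top,
      show f L - c * L = f (L - x n) - c * (L - x n) by rw [map_sub, hx]; ring]
    exact sub_mem (hf n _ (hL n)) (Ideal.mul_mem_left _ _ (hL n))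
  obtain ⟨u, hu⟩ := lim I (fun n => (s n).1) fun n => (hnext n _ (hs n)).2.1
  obtain ⟨v, hv⟩ := lim I (fun n => (s n).2.1) fun n => (hnext n _ (hs n)).2.2.1
  obtain ⟨α, hα⟩ := lim (maximalIdeal R) (fun n => (s n).2.2) fun n => (hnext n _ (hs n)).2.2.2
  have hσI : ∀ n, ∀ z ∈ I ^ n, (σ : S →+* S).toAddMonoidHom z ∈ I ^ n := fun n z hz => by
    rw [hI, ← Ideal.map_pow] at hz ⊢
    exact map_mem σ hz
  refine ⟨u, v, α, ?_, ?_, ?_, ?_,
    eigen I (σ : S →+* S).toAddMonoidHom _ u (fun n => (s n).1) hσI (fun n => (hs n).2.2.2.1) hu,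
    eigen I (σ : S →+* S).toAddMonoidHom _ v (fun n => (s n).2.1) hσI (fun n => (hs n).2.2.2.2.1) hv,
    (eigen (maximalIdeal R) (AddMonoidHom.mulLeft (ε * δ)) 1 α (fun n => (s n).2.2)
      (fun n z hz => Ideal.mul_mem_left _ _ hz) (fun n => by simpa using (hs n).2.2.2.2.2.1) hα).trans (one_mul α)⟩
  · simpa using add_mem (show α - (s 1).2.2 ∈ maximalIdeal R by simpa using hα 1) (hs 1).2.2.1
  · simpa using add_mem (show u - (s 1).1 ∈ I by simpa using hu 1) (hs 1).1
  · simpa using add_mem (show v - (s 1).2.1 ∈ I by simpa using hv 1) (hs 1).2.1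
  refine sub_eq_zero.1 (IsHausdorff.haus (I := I) inferInstance _ fun n => ?_)
  rw [SModEq.sub_mem, sub_zero, smul_eq_mul, Ideal.mul_top]
  have h1 : (s n).1 * (s n).2.1 - algebraMap R S (s n).2.2 ∈ I ^ n := by
    rw [hI, ← Ideal.map_pow]
    exact Ideal.map_mono (Ideal.pow_le_pow_right n.le_succ) (hs n).2.2.2.2.2.2
  have h2 : algebraMap R S (α - (s n).2.2) ∈ I ^ n := by
    rw [hI, ← Ideal.map_pow]; exact Ideal.mem_map_of_mem _ (hα n)
  have key : u * v - algebraMap R S α = ((s n).1 * (s n).2.1 - algebraMap R S (s n).2.2) +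
      (u - (s n).1) * v + (s n).1 * (v - (s n).2.1) - algebraMap R S (α - (s n).2.2) := by
    rw [map_sub]; ring
  rw [key]
  exact sub_mem (add_mem (add_mem h1 (Ideal.mul_mem_right _ _ (hu n)))
    (Ideal.mul_mem_left _ _ (hv n))) h2

end GrothLib.NodeInv2
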