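import Groth.Agent.Lib.NodeInv2.Equivariant
import Groth.Agent.Lib.NodeNF.Flat
import Groth.Agent.Lib.ArLef.Node

/-!
# A node deformation with an involution
-/

set_option autoImplicit false
set_option linter.all false
set_option maxHeartbeats 1000000

universe u

open IsLocalRing ArLef

namespace GrothLib.NodeInv2

/-- The two presentations of the node. -/
theorem exists_node_fibre_equiv (k : Type u) [Field k] (h2 : (2 : k) ≠ 0) :
    Nonempty ((MvPowerSeries (Fin 2) k ⧸
      Ideal.span {(MvPowerSeries.X 1 ^ 2 - MvPowerSeries.X 0 ^ 2 : MvPowerSeries (Fin 2) k)}) ≃ₐ[k] NodeAlg k 0) := by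
  haveI : IsAdicComplete (maximalIdeal k) k := by
    rw [show maximalIdeal k = ⊥ from (isField_iff_maximalIdeal_eq.1 (Field.toIsField k))]
    infer_instance
  haveI := GrothLib.HLVT.isAdicComplete_powerSeries k 2
  let P := MvPowerSeries (Fin 2) k
  let a : P := MvPowerSeries.X 0 - MvPowerSeries.X 1
  let b : P := MvPowerSeries.X 0 + MvPowerSeries.X 1
  have hh : (2 : P) * MvPowerSeries.C (2 : k)⁻¹ = 1 := by
    rw [← map_ofNat (MvPowerSeries.C (σ := Fin 2) (R := k)) 2, ← map_mul, mul_inv_cancel₀ h2, map_one]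
  have hgen : maximalIdeal P = Ideal.span {a, b} ⊔ (maximalIdeal k).map (algebraMap k P) := by
    refine le_antisymm (fun x hx => Ideal.mem_sup_left ?_) (sup_le ?_ ?_)
    · rw [mem_maximalIdeal, mem_nonunits_iff, MvPowerSeries.isUnit_iff_constantCoeff, isUnit_iff_ne_zero,
        not_not] at hx
      have h3 : x ∈ RingHom.ker (MvPowerSeries.constantCoeff (σ := Fin 2) (R := k)) := hx
      rw [GrothLib.AdicFS.ker_constantCoeff, GrothLib.AdicFS.varsIdeal, MvPolynomial.idealOfVars,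
        Ideal.map_span, ← Set.range_comp] at h3
      refine Ideal.span_le.2 ?_ h3
      rintro _ ⟨i, rfl⟩
      simp only [Function.comp_apply, MvPowerSeries.algebraMap_apply']
      fin_cases i
      · refine Ideal.mem_span_pair.2 ⟨MvPowerSeries.C (2 : k)⁻¹, MvPowerSeries.C (2 : k)⁻¹, ?_⟩
        simp [a, b]
        linear_combination (MvPowerSeries.X 0 : P) * hh
      · refine Ideal.mem_span_pair.2 ⟨-MvPowerSeries.C (2 : k)⁻¹, MvPowerSeries.C (2 : k)⁻¹, ?_⟩
        simp [a, b]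
        linear_combination (MvPowerSeries.X 1 : P) * hh
    · rw [Ideal.span_le]
      rintro x (rfl | rfl) <;>
      · rw [SetLike.mem_coe, mem_maximalIdeal, mem_nonunits_iff, MvPowerSeries.isUnit_iff_constantCoeff]
        simp [a, b]
    · rw [show maximalIdeal k = ⊥ from (isField_iff_maximalIdeal_eq.1 (Field.toIsField k)), Ideal.map_bot]
      exact bot_le
  obtain ⟨φ, h0, h1, hs⟩ := GrothLib.NodeNF.exists_surjective (R := k) (S := P) (fun y =>
    ⟨MvPowerSeries.constantCoeff y, by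
      rw [mem_maximalIdeal, mem_nonunits_iff, MvPowerSeries.isUnit_iff_constantCoeff, map_sub]
      simp [P, MvPowerSeries.algebraMap_apply]⟩) hgen
  let Φ : P ≃ₐ[k] P := AlgEquiv.ofBijective φ ⟨GrothLib.NodeNF.ringEndo_injective_of_surjective φ.toRingHom hs, hs⟩
  refine ⟨Ideal.quotientEquivAlg _ _ Φ ?_⟩
  rw [Ideal.map_span, Set.image_singleton]
  refine (Ideal.span_singleton_eq_span_singleton.2 ?_).symm
  have h4 : IsUnit (4 : P) := by
    rw [show (4 : P) = MvPowerSeries.C (4 : k) from (map_ofNat _ 4).symm]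
    exact (isUnit_iff_ne_zero.2 (by rw [show (4 : k) = 2 * 2 by norm_num]; exact mul_ne_zero h2 h2)).map _
  obtain ⟨w, hw⟩ := h4
  refine Associated.symm ⟨w, ?_⟩
  show _ = φ _
  rw [map_sub, map_pow, map_pow, h0, h1, map_zero, sub_zero, hw]
  simp only [a, b]
  ring

variable (k R S : Type u) [Field k] [IsAlgClosed k]
    [CommRing R] [IsLocalRing R] [IsNoetherianRing R] [IsAdicComplete (IsLocalRing.maximalIdeal R) R]
    [CommRing S] [IsLocalRing S] [IsNoetherianRing S] [IsAdicComplete (IsLocalRing.maximalIdeal S) S]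
    [Algebra k R] [Algebra R S] [Algebra k S] [IsScalarTower k R S]
    [IsLocalHom (algebraMap R S)] [Module.Flat R S]

/-- The normal form of a node deformation with an involution. -/
theorem exists_algEquiv (h2 : (2 : k) ≠ 0)
    (e : (S ⧸ Ideal.map (algebraMap R S) (IsLocalRing.maximalIdeal R)) ≃ₐ[k]
      (MvPowerSeries (Fin 2) k ⧸
        Ideal.span {(MvPowerSeries.X 1 ^ 2 - MvPowerSeries.X 0 ^ 2 : MvPowerSeries (Fin 2) k)}))
    (σ : S ≃ₐ[R] S) (hσ : ∀ s, σ (σ s) = s)
    (hbr : ∀ P ∈ (Ideal.map (algebraMap R S) (IsLocalRing.maximalIdeal R)).minimalPrimes,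
      Ideal.map (σ : S →+* S) P = P) :
    ∃ (t : R) (ξ₁ ξ₂ : k), ξ₁ ^ 2 = 1 ∧ ξ₂ ^ 2 = 1 ∧ (ξ₁ = -ξ₂ → t = 0) ∧
      ∃ f : S ≃ₐ[R] (MvPowerSeries (Fin 2) R ⧸
          Ideal.span {(MvPowerSeries.X 0 * MvPowerSeries.X 1 - MvPowerSeries.C t : MvPowerSeries (Fin 2) R)}),
        f (σ (f.symm (Ideal.Quotient.mk _ (MvPowerSeries.X 0)))) =
          algebraMap k R ξ₂ • Ideal.Quotient.mk _ (MvPowerSeries.X 0) ∧
        f (σ (f.symm (Ideal.Quotient.mk _ (MvPowerSeries.X 1)))) =
          algebraMap k R ξ₁ • Ideal.Quotient.mk _ (MvPowerSeries.X 1) := by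
  obtain ⟨E⟩ := exists_node_fibre_equiv k h2
  set I := Ideal.map (algebraMap R S) (maximalIdeal R) with hI
  let q : S →ₐ[k] NodeAlg k 0 := ((e.trans E).toAlgHom).comp (Ideal.Quotient.mkₐ k I)
  have hqs : Function.Surjective q := (e.trans E).surjective.comp (Ideal.Quotient.mkₐ_surjective k I)
  have hq0 : ∀ z, q z = 0 ↔ z ∈ I := fun z => by
    show (e.trans E) (Ideal.Quotient.mk I z) = 0 ↔ _
    rw [map_eq_zero_iff _ (e.trans E).injective, Ideal.Quotient.eq_zero_iff_mem]
  have hid : ∀ b : k, (RingHom.id k) b = 0 → (0 : k) ∣ b := fun b hb => by rw [show b = 0 from hb]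
  let β : Fin 2 → S →+* PowerSeries k := fun s => (GrothLib.NodeAlg.br (RingHom.id k) (map_zero _) s).comp q.toRingHom
  have hβs : ∀ s, Function.Surjective (β s) := fun s =>
    (GrothLib.NodeAlg.br_surjective (RingHom.id k) (map_zero _) Function.surjective_id s).comp hqs
  obtain ⟨u₀, hu₀⟩ := hqs (NodeAlg.t (0 : k))
  obtain ⟨v₀, hv₀⟩ := hqs (NodeAlg.e (0 : k))
  have huv : u₀ * v₀ ∈ I := by
    rw [← hq0, map_mul, hu₀, hv₀, GrothLib.NodeAlg.t_mul_e, map_zero]
  -- the residue map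
  let π : S →+* k := (PowerSeries.constantCoeff (R := k)).comp (β 1)
  have hπk : ∀ c : k, π (algebraMap k S c) = c := fun c => by
    show PowerSeries.constantCoeff (GrothLib.NodeAlg.br (RingHom.id k) (map_zero _) 1 (q (algebraMap k S c))) = c
    rw [q.commutes, GrothLib.NodeAlg.br_algebraMap, PowerSeries.constantCoeff_C, RingHom.id_apply]
  have hπs : Function.Surjective π := fun c => ⟨_, hπk c⟩
  have hπker : RingHom.ker π = maximalIdeal S :=
    IsLocalRing.eq_maximalIdeal (RingHom.ker_isMaximal_of_surjective π hπs)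
  let res : R →+* k := π.comp (algebraMap R S)
  have hresk : ∀ c : k, res (algebraMap k R c) = c := fun c => by
    show π (algebraMap R S (algebraMap k R c)) = c
    rw [← IsScalarTower.algebraMap_apply, hπk]
  have hress : Function.Surjective res := fun c => ⟨_, hresk c⟩
  have hresker : RingHom.ker res = maximalIdeal R :=
    IsLocalRing.eq_maximalIdeal (RingHom.ker_isMaximal_of_surjective res hress)
  have hπI : ∀ {z : S}, z ∈ I → π z = 0 := fun {z} hz => by
    show PowerSeries.constantCoeff (GrothLib.NodeAlg.br (RingHom.id k) (map_zero _) 1 (q z)) = 0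
    rw [(hq0 z).2 hz, map_zero, map_zero]
  have hres : ∀ y : S, ∃ c : R, y - algebraMap R S c ∈ maximalIdeal S := fun y =>
    ⟨algebraMap k R (π y), by rw [← hπker, RingHom.mem_ker, map_sub, ← IsScalarTower.algebraMap_apply, hπk, sub_self]⟩
  have hσπ : ∀ z, π (σ z) = π z := fun z => by
    have hm : σ (z - algebraMap R S (algebraMap k R (π z))) ∈ maximalIdeal S := by
      refine fun hu => (mem_maximalIdeal _).1 (show z - algebraMap R S (algebraMap k R (π z)) ∈ maximalIdeal S by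
        rw [← hπker, RingHom.mem_ker, map_sub, ← IsScalarTower.algebraMap_apply, hπk, sub_self]) ?_
      simpa [hσ] using hu.map σ
    rw [← hπker, RingHom.mem_ker, map_sub, map_sub, σ.commutes, ← IsScalarTower.algebraMap_apply, hπk,
      sub_eq_zero] at hm
    exact hm
  have hgen : maximalIdeal S = Ideal.span {u₀, v₀} ⊔ I := by
    refine le_antisymm (fun z hz => ?_) (sup_le ?_ ?_)
    · rw [← hπker, RingHom.mem_ker] at hz
      obtain ⟨P', hP'⟩ := PowerSeries.X_dvd_iff.2 hz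
      obtain ⟨w, hw⟩ := hβs 1 P'
      have h0 : GrothLib.NodeAlg.br (RingHom.id k) (map_zero _) 1 (q (z - v₀ * w)) = 0 := by
        show β 1 (z - v₀ * w) = 0
        rw [map_sub, map_mul, hw, show β 1 v₀ = PowerSeries.X from
          (congrArg (GrothLib.NodeAlg.br (RingHom.id k) (map_zero _) 1) hv₀).trans (GrothLib.NodeAlg.br_e1 _ _), show β 1 z = PowerSeries.X * P' from hP', sub_self]
      obtain ⟨y, hy⟩ := (GrothLib.NodeAlg.t_dvd_iff _ _ hid _).2 h0
      obtain ⟨w', rfl⟩ := hqs y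
      have h1 : z - v₀ * w - u₀ * w' ∈ I := by rw [← hq0, map_sub, map_mul q u₀, hu₀, hy, sub_self]
      have hw' : w' * u₀ + w * v₀ ∈ Ideal.span {u₀, v₀} := Ideal.mem_span_pair.2 ⟨w', w, rfl⟩
      have := add_mem (Ideal.mem_sup_left (T := I) hw') (Ideal.mem_sup_right h1)
      rwa [show w' * u₀ + w * v₀ + (z - v₀ * w - u₀ * w') = z by ring] at this
    · rw [Ideal.span_le, ← hπker]
      rintro x (rfl | rfl)
      · show PowerSeries.constantCoeff (GrothLib.NodeAlg.br (RingHom.id k) (map_zero _) 1 (q x)) = 0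
        rw [hu₀, GrothLib.NodeAlg.br_t1, map_zero]
      · show PowerSeries.constantCoeff (GrothLib.NodeAlg.br (RingHom.id k) (map_zero _) 1 (q x)) = 0
        rw [hv₀, GrothLib.NodeAlg.br_e1, PowerSeries.constantCoeff_X]
    · rw [← hπker]
      exact fun z hz => hπI hz
  -- eigenvectors
  have key : ∀ (s : Fin 2) (w₀ w₁ : S), (∀ x, β s x = 0 → ∃ y, x - w₀ * y ∈ I) → β s w₀ = 0 → β s w₁ ≠ 0 →
      w₀ * w₁ ∈ I → w₀ ∉ I →
      ∃ (ε : k) (w b : S), ε ^ 2 = 1 ∧ IsUnit b ∧ w - b * w₀ ∈ I ∧ σ w = algebraMap k S ε * w := by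
    intro s w₀ w₁ hdvd h0 h1 h01 hw0
    have hle : I ≤ RingHom.ker (β s) := fun z hz => by
      show GrothLib.NodeAlg.br (RingHom.id k) (map_zero _) s (q z) = 0
      rw [(hq0 z).2 hz, map_zero]
    have hP : RingHom.ker (β s) ∈ I.minimalPrimes := by
      refine ⟨⟨RingHom.ker_isPrime _, hle⟩, fun p ⟨hp, hIp⟩ hpP x hx => ?_⟩
      have hw : w₀ ∈ p := (hp.mem_or_mem (hIp h01)).resolve_right fun h => h1 (hpP h)
      obtain ⟨y, hy⟩ := hdvd x hx
      simpa using add_mem (hIp hy) (p.mul_mem_right y hw)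
    have hσw : σ w₀ ∈ RingHom.ker (β s) := by
      rw [← hbr _ hP]
      exact Ideal.mem_map_of_mem (σ : S →+* S) h0
    obtain ⟨a, ha⟩ := hdvd _ hσw
    have ha' := map_mem σ (J := maximalIdeal R) ha
    rw [map_sub, map_mul, hσ] at ha'
    have hu : π (σ a * a - 1) = 0 := by
      by_contra hne
      have hunit : IsUnit (σ a * a - 1) := by
        by_contra hnu
        exact hne (RingHom.mem_ker.1 (hπker ▸ (mem_maximalIdeal _).2 hnu))
      refine hw0 ((Ideal.unit_mul_mem_iff_mem I hunit).1 ?_)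
      have := add_mem (Ideal.mul_mem_left I (-σ a) ha) (neg_mem ha')
      convert this using 1
      ring
    rw [map_sub, map_mul, hσπ, map_one, sub_eq_zero] at hu
    have hhalf : (2 : S) * algebraMap k S (2 : k)⁻¹ = 1 := by
      rw [← map_ofNat (algebraMap k S) 2, ← map_mul, mul_inv_cancel₀ h2, map_one]
    let E' := algebraMap k S (π a)
    have hEE : E' * E' = 1 := by rw [← map_mul, hu, map_one]
    let b := algebraMap k S (2 : k)⁻¹ * (1 + E' * a)
    refine ⟨π a, algebraMap k S (2 : k)⁻¹ * (w₀ + E' * σ w₀), b, by rw [sq, hu], ?_, ?_, ?_⟩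
    · by_contra hnu
      have h := RingHom.mem_ker.1 (hπker ▸ (mem_maximalIdeal _).2 hnu)
      simp only [b, E', map_mul, map_add, map_one, hπk, hu, show (1 : k) + 1 = 2 by norm_num,
        inv_mul_cancel₀ h2] at h
      exact one_ne_zero h
    · convert Ideal.mul_mem_left I (algebraMap k S (2 : k)⁻¹ * E') ha using 1
      simp only [b]
      ring
    · have hc : ∀ c : k, σ (algebraMap k S c) = algebraMap k S c := fun c => by
        rw [IsScalarTower.algebraMap_apply k R S, σ.commutes]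
      simp only [map_mul, map_add, hσ, E', hc]
      linear_combination (-(algebraMap k S (2 : k)⁻¹ * σ w₀)) * hEE
  have hX : (PowerSeries.X : PowerSeries k) ≠ 0 := PowerSeries.X_ne_zero
  have hu₀I : u₀ ∉ I := fun h => hX (by
    rw [← GrothLib.NodeAlg.br_t0 (RingHom.id k) (map_zero (RingHom.id k)), ← hu₀, (hq0 u₀).2 h, map_zero])
  have hv₀I : v₀ ∉ I := fun h => hX (by
    rw [← GrothLib.NodeAlg.br_e1 (RingHom.id k) (map_zero (RingHom.id k)), ← hv₀, (hq0 v₀).2 h, map_zero])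
  obtain ⟨ε, u₁, bu, hε, hbu, hu₁, hσu⟩ := key 1 u₀ v₀ (fun x hx => by
      obtain ⟨y, hy⟩ := (GrothLib.NodeAlg.t_dvd_iff _ _ hid _).2 (show GrothLib.NodeAlg.br (RingHom.id k) (map_zero _) 1 (q x) = 0 from hx)
      obtain ⟨y', rfl⟩ := hqs y
      exact ⟨y', by rw [← hq0, map_sub, map_mul, hu₀, hy, sub_self]⟩)
    ((congrArg (GrothLib.NodeAlg.br (RingHom.id k) (map_zero _) 1) hu₀).trans (GrothLib.NodeAlg.br_t1 _ _))
    (fun h => hX ((((congrArg (GrothLib.NodeAlg.br (RingHom.id k) (map_zero _) 1) hv₀).trans (GrothLib.NodeAlg.br_e1 _ _)).symm.trans h)))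
    huv hu₀I
  obtain ⟨δ, v₁, bv, hδ, hbv, hv₁, hσv⟩ := key 0 v₀ u₀ (fun x hx => by
      obtain ⟨y, hy⟩ := (GrothLib.NodeAlg.e_dvd_iff _ _ hid _).2 (show GrothLib.NodeAlg.br (RingHom.id k) (map_zero _) 0 (q x) = 0 from hx)
      obtain ⟨y', rfl⟩ := hqs y
      exact ⟨y', by rw [← hq0, map_sub, map_mul, hv₀, hy, sub_self]⟩)
    ((congrArg (GrothLib.NodeAlg.br (RingHom.id k) (map_zero _) 0) hv₀).trans (GrothLib.NodeAlg.br_e0 _ _))
    (fun h => hX ((((congrArg (GrothLib.NodeAlg.br (RingHom.id k) (map_zero _) 0) hu₀).trans (GrothLib.NodeAlg.br_t0 _ _)).symm.trans h)))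
    (by rwa [mul_comm]) hv₀I
  have hgen₁ : maximalIdeal S = Ideal.span {u₁, v₁} ⊔ I := by
    rw [GrothLib.NodeNF.span_pair_sup_eq hu₁ hv₁, hgen]
    congr 1
    refine le_antisymm (Ideal.span_le.2 ?_) (Ideal.span_le.2 ?_)
    · rintro x (rfl | rfl)
      · exact (Ideal.unit_mul_mem_iff_mem _ hbu).1 (Ideal.subset_span (by simp))
      · exact (Ideal.unit_mul_mem_iff_mem _ hbv).1 (Ideal.subset_span (by simp))
    · rintro x (rfl | rfl)
      · exact Ideal.mul_mem_left _ _ (Ideal.subset_span (by simp))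
      · exact Ideal.mul_mem_left _ _ (Ideal.subset_span (by simp))
  have huv₁ : u₁ * v₁ ∈ I := by
    have : u₁ * v₁ = (u₁ - bu * u₀) * v₁ + bu * u₀ * (v₁ - bv * v₀) + bu * bv * (u₀ * v₀) := by ring
    rw [this]
    exact add_mem (add_mem (Ideal.mul_mem_right _ _ hu₁) (Ideal.mul_mem_left _ _ hv₁)) (Ideal.mul_mem_left _ _ huv)
  obtain ⟨u, v, α, hα, hu, hv, huvα, hsu, hsv, hsα⟩ := exists_normal_form σ hσ (algebraMap k R ε)
    (algebraMap k R δ) (algebraMap k R (2 : k)⁻¹) (by rw [← map_mul, ← sq, hε, map_one])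
    (by rw [← map_mul, ← sq, hδ, map_one])
    (by rw [← map_ofNat (algebraMap k R) 2, ← map_mul, mul_inv_cancel₀ h2, map_one]) hres huv₁ hgen₁
    (by rw [← IsScalarTower.algebraMap_apply]; exact hσu) (by rw [← IsScalarTower.algebraMap_apply]; exact hσv)
  refine ⟨α, δ, ε, hδ, hε, fun hd => ?_, ?_⟩
  · rw [hd, ← map_mul, mul_neg, ← sq, hε, map_neg, map_one, neg_one_mul] at hsα
    have h : algebraMap k R 2 * α = 0 := by rw [map_ofNat]; linear_combination -hsα
    rwa [((isUnit_iff_ne_zero.2 h2).map (algebraMap k R)).mul_right_eq_zero] at h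
  have hgen₂ : maximalIdeal S = Ideal.span {u, v} ⊔ I := by
    rw [GrothLib.NodeNF.span_pair_sup_eq hu hv]; exact hgen₁
  obtain ⟨ψ, hψ0, hψ1, hψs⟩ := GrothLib.NodeNF.exists_surjective hres hgen₂
  let J : Ideal (MvPowerSeries (Fin 2) R) :=
    Ideal.span {(MvPowerSeries.X 0 * MvPowerSeries.X 1 - MvPowerSeries.C α : MvPowerSeries (Fin 2) R)}
  have hψC : ∀ c, ψ (MvPowerSeries.C c) = algebraMap R S c := fun c => by
    rw [← ψ.commutes c, MvPowerSeries.algebraMap_apply, Algebra.algebraMap_self_apply]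
  have hψJ : ψ (MvPowerSeries.X 0 * MvPowerSeries.X 1 - MvPowerSeries.C α) = 0 := by
    rw [map_sub, map_mul, hψ0, hψ1, hψC, huvα, sub_self]
  let f : (MvPowerSeries (Fin 2) R ⧸ J) →ₐ[R] S := Ideal.Quotient.liftₐ J ψ fun x hx => by
    obtain ⟨c, rfl⟩ := Ideal.mem_span_singleton'.1 hx
    rw [map_mul, hψJ, mul_zero]
  have hf : ∀ x, f (Ideal.Quotient.mk J x) = ψ x := fun x => rfl
  have hfs : Function.Surjective f := fun y => ⟨Ideal.Quotient.mk J (hψs y).choose, (hψs y).choose_spec⟩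
  -- injectivity
  let ι := Ideal.quotEquivOfEq (show Ideal.span {(MvPowerSeries.X 0 * MvPowerSeries.X 1 - MvPowerSeries.C 0 : MvPowerSeries (Fin 2) k)}
    = Ideal.span {(MvPowerSeries.X 0 * MvPowerSeries.X 1 : MvPowerSeries (Fin 2) k)} by rw [map_zero, sub_zero])
  let χ := ι.toRingHom.comp (q.toRingHom.comp ψ.toRingHom)
  have hχ : ∀ x, χ x = ι (q (ψ x)) := fun _ => rfl
  have hker := GrothLib.NodeNF.ker_le_of_surjective_fibre res hress hresker hα χ
    (ι.surjective.comp (hqs.comp hψs))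
    (fun a ha => by rw [hχ, hψC]; exact (congrArg ι ((hq0 _).2 (Ideal.mem_map_of_mem _ ha))).trans (map_zero ι))
    (by rw [hχ, hψJ]; exact (congrArg ι (map_zero q)).trans (map_zero ι))
  haveI : Nontrivial (MvPowerSeries (Fin 2) R ⧸ J) := f.toRingHom.domain_nontrivial
  haveI : IsLocalRing (MvPowerSeries (Fin 2) R ⧸ J) := IsLocalRing.of_surjective' _ Ideal.Quotient.mk_surjective
  have hle : (maximalIdeal R).map (algebraMap R (MvPowerSeries (Fin 2) R ⧸ J)) ≤ maximalIdeal _ := by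
    refine le_maximalIdeal fun h => ?_
    have h' := congrArg (Ideal.map f.toRingHom) h
    rw [Ideal.map_top, Ideal.map_map, show f.toRingHom.comp (algebraMap R (MvPowerSeries (Fin 2) R ⧸ J)) = algebraMap R S
      from RingHom.ext f.commutes] at h'
    exact (Ideal.IsPrime.ne_top' : maximalIdeal S ≠ ⊤) (top_le_iff.1 (h' ▸ hgen ▸ le_sup_right))
  have hkf : RingHom.ker f ≤ (maximalIdeal R).map (algebraMap R (MvPowerSeries (Fin 2) R ⧸ J)) := fun z hz => by
    obtain ⟨x, rfl⟩ := Ideal.Quotient.mk_surjective z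
    have hx : x ∈ RingHom.ker χ := by
      rw [RingHom.mem_ker, hχ, ← hf, RingHom.mem_ker.1 hz]
      exact (congrArg ι (map_zero q)).trans (map_zero ι)
    have h5 := Ideal.mem_map_of_mem (Ideal.Quotient.mk J) (hker hx)
    rw [Ideal.map_sup, Ideal.map_quotient_self, sup_bot_eq, Ideal.map_map] at h5
    exact h5
  have hinj : Function.Injective f := (RingHom.injective_iff_ker_eq_bot f).2
    (GrothLib.NodeNF.ker_eq_bot_of_flat (maximalIdeal R) hle f hfs hkf)
  let F := (AlgEquiv.ofBijective f ⟨hinj, hfs⟩).symm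
  have hF : ∀ x, F (ψ x) = Ideal.Quotient.mk J x := fun x =>
    (AlgEquiv.ofBijective f ⟨hinj, hfs⟩).symm_apply_apply (Ideal.Quotient.mk J x)
  have hFs : ∀ x, F.symm (Ideal.Quotient.mk J x) = ψ x := fun x => rfl
  refine ⟨F, ?_, ?_⟩
  · rw [hFs, hψ0, hsu, ← Algebra.smul_def, map_smul, ← hψ0, hF]
  · rw [hFs, hψ1, hsv, ← Algebra.smul_def, map_smul, ← hψ1, hF]

end GrothLib.NodeInv2
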